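import Groth.Agent.Lib.RefineDesc12.Model
import Groth.Agent.Lib.AmpleFin18.Curves
import Groth.Agent.S0385
import Groth.Agent.S2351
import Groth.Agent.S9688
import Groth.Agent.S9398
import Groth.Agent.S9834
import Groth.Agent.Lib.LocImm12.Noeth

/-!
# Covering a quasi-finite scheme by opens of normal schemes finite over the base
-/

set_option autoImplicit false

universe u

open CategoryTheory CategoryTheory.Limits AlgebraicGeometry TopologicalSpace

namespace Groth.Agent.PushQF9

theorem isIntegral_image {W T : Scheme.{u}} [IsIntegral W] (j : W ⟶ T) [QuasiCompact j] :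
    IsIntegral j.image := by
  haveI : IsReduced j.image := CurveNF.isReduced_image j
  haveI : IrreducibleSpace j.image := by
    rw [irreducibleSpace_def]
    convert! ((IrreducibleSpace.isIrreducible_univ W).image _
      j.toImage.continuous.continuousOn).closure
    simpa using j.toImage.denseRange.closure_range.symm
  exact isIntegral_of_irreducibleSpace_of_isReduced _

theorem isUniversallyJapanese_of_finite {X C : Scheme.{u}} (π : C ⟶ X) [IsFinite π]
    (hX : ∀ U : X.Opens, IsAffineOpen U → CAlg.IsUniversallyJapanese Γ(X, U))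
    (V : C.Opens) (hV : IsAffineOpen V) : CAlg.IsUniversallyJapanese Γ(C, V) := by
  refine Groth.Agent.S9834.result C (fun U : X.affineOpens => π ⁻¹ᵁ U.1) ?_ (fun U => U.2.preimage π)
    (fun U => ?_) V hV
  · rw [← Scheme.Hom.preimage_iSup, show (⨆ U : X.affineOpens, U.1) = ⊤ from iSup_affineOpens_eq_top X]
    rfl
  · have hφ : (π.app U.1).hom.Finite := IsFinite.finite_app π U.1 U.2
    algebraize [(π.app U.1).hom]
    haveI : Algebra.EssFiniteType Γ(X, U.1) Γ(C, π ⁻¹ᵁ U.1) := inferInstance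
    exact Groth.Agent.S9398.result Γ(X, U.1) (hX U.1 U.2) _

/-- An integral scheme quasi-finite and separated over a universally Japanese noetherian scheme is covered by
an open subscheme of a normal scheme finite over the base. -/
theorem exists_normal_cover {X W : Scheme.{u}} [IsNoetherian X] [IsIntegral W]
    (hX : ∀ U : X.Opens, IsAffineOpen U → CAlg.IsUniversallyJapanese Γ(X, U))
    (f : W ⟶ X) [LocallyQuasiFinite f] [LocallyOfFiniteType f] [QuasiCompact f] [IsSeparated f] :
    ∃ (W' C' : Scheme.{u}) (h : W' ⟶ W) (j : W' ⟶ C') (ρ : C' ⟶ X),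
      Surjective h ∧ IsOpenImmersion j ∧ QuasiCompact j ∧ Dense (Set.range j) ∧
        Pi1.IsNormalScheme C' ∧ IsFinite ρ ∧ j ≫ ρ = h ≫ f := by
  obtain ⟨T, j₀, π, hj₀, hqc, hπ, hfac⟩ := Groth.Agent.S0385.result f
  haveI := hj₀; haveI := hqc; haveI := hπ
  haveI : IsIntegral j₀.image := isIntegral_image j₀
  let C := j₀.image
  let π₀ : C ⟶ X := j₀.imageι ≫ π
  haveI : IsFinite π₀ := inferInstanceAs (IsFinite (j₀.imageι ≫ π))
  haveI : IsNoetherian C := Groth.Agent.LocImm12.isNoetherian_of_finiteType π₀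
  haveI : QuasiCompact (C.fromSpecStalk (genericPoint C)) := quasiCompact_of_compactSpace _
  haveI : QuasiSeparated (C.fromSpecStalk (genericPoint C)) := inferInstance
  let ν := Curv2.normalizationι C
  haveI : IsFinite ν := Groth.Agent.S9688.result C fun U hU hne => by
    haveI : IsDomain Γ(C, U) := @IsIntegral.component_integral C _ U hne
    exact isUniversallyJapanese_of_finite π₀ hX U hU Γ(C, U)
      (Algebra.FiniteType.of_surjective (Algebra.ofId Γ(C, U) Γ(C, U)) Function.surjective_id)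
  obtain ⟨hint, hnorm, hsurj, -⟩ := Groth.Agent.S2351.result C
  haveI : IsIntegral (Curv2.normalization C) := hint
  haveI : Surjective ν := hsurj
  let h := pullback.snd ν j₀.toImage
  let j := pullback.fst ν j₀.toImage
  haveI : Surjective h := inferInstanceAs (Surjective (pullback.snd ν j₀.toImage))
  haveI : IsOpenImmersion j := inferInstanceAs (IsOpenImmersion (pullback.fst ν j₀.toImage))
  haveI : QuasiCompact j := inferInstanceAs (QuasiCompact (pullback.fst ν j₀.toImage))
  refine ⟨_, _, h, j, ν ≫ π₀, inferInstance, inferInstance, inferInstance, ?_, hnorm, inferInstance, ?_⟩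
  · refine IsOpen.dense j.isOpenEmbedding.isOpen_range ?_
    obtain ⟨w⟩ := (inferInstance : Nonempty W)
    obtain ⟨w', -⟩ := h.surjective w
    exact ⟨j w', Set.mem_range_self w'⟩
  · show pullback.fst ν j₀.toImage ≫ ν ≫ j₀.imageι ≫ π = pullback.snd ν j₀.toImage ≫ f
    rw [pullback.condition_assoc, Scheme.Hom.toImage_imageι_assoc, hfac]

/-- Finitely many such covers suffice, without separatedness. -/
theorem exists_normal_covers {X Z : Scheme.{u}} [IsNoetherian X]
    (hX : ∀ U : X.Opens, IsAffineOpen U → CAlg.IsUniversallyJapanese Γ(X, U))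
    (f : Z ⟶ X) [LocallyQuasiFinite f] [LocallyOfFiniteType f] [QuasiCompact f] :
    ∃ (n : ℕ) (W' C' : Fin n → Scheme.{u}) (h : ∀ i, W' i ⟶ Z) (j : ∀ i, W' i ⟶ C' i) (ρ : ∀ i, C' i ⟶ X),
      (∀ z : Z, ∃ i, z ∈ Set.range (h i)) ∧ ∀ i, IsOpenImmersion (j i) ∧ QuasiCompact (j i) ∧
        Dense (Set.range (j i)) ∧ Pi1.IsNormalScheme (C' i) ∧ IsFinite (ρ i) ∧ j i ≫ ρ i = h i ≫ f := by
  haveI : IsNoetherian Z := Groth.Agent.LocImm12.isNoetherian_of_finiteType f
  obtain ⟨s, hcov⟩ := CompactSpace.elim_nhds_subcover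
    (fun z : Z => ((exists_isAffineOpen_mem_and_subset (U := (⊤ : Z.Opens)) (x := z) trivial).choose : Set Z))
    (fun z => (exists_isAffineOpen_mem_and_subset (U := (⊤ : Z.Opens)) (x := z) trivial).choose.isOpen.mem_nhds
      (exists_isAffineOpen_mem_and_subset (U := (⊤ : Z.Opens)) (x := z) trivial).choose_spec.2.1)
  let A : s → Z.Opens := fun z =>
    (exists_isAffineOpen_mem_and_subset (U := (⊤ : Z.Opens)) (x := z.1) trivial).choose
  have hA : ∀ z, IsAffineOpen (A z) := fun z =>
    (exists_isAffineOpen_mem_and_subset (U := (⊤ : Z.Opens)) (x := z.1) trivial).choose_spec.1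
  haveI : ∀ z, IsAffine (A z).toScheme := hA
  haveI : ∀ z, NoetherianSpace (A z).toScheme := fun z => (A z).ι.isEmbedding.isInducing.noetherianSpace
  let J := Σ z : s, irreducibleComponents (A z).toScheme
  haveI : ∀ z, Finite (irreducibleComponents (A z).toScheme) := fun z =>
    NoetherianSpace.finite_irreducibleComponents.to_subtype
  haveI : Finite J := inferInstance
  let I : ∀ i : J, (A i.1).toScheme.IdealSheafData := fun i =>
    Scheme.IdealSheafData.vanishingIdeal ⟨i.2.1, isClosed_of_mem_irreducibleComponents _ i.2.2⟩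
  haveI : ∀ i, IsIntegral (I i).subscheme := fun i =>
    Groth.Agent.AmpleFin18.isIntegral_of_irreducible _ i.2.2.1
  let g : ∀ i : J, (I i).subscheme ⟶ Z := fun i => (I i).subschemeι ≫ (A i.1).ι
  haveI : ∀ i, IsAffine (I i).subscheme := fun i => isAffine_of_isAffineHom (I i).subschemeι
  haveI : ∀ i, IsSeparated (g i ≫ f) := fun i => inferInstance
  haveI : ∀ i, QuasiCompact (g i) := fun i => inferInstance
  haveI : ∀ i, LocallyQuasiFinite (g i) := fun i => inferInstance
  haveI : ∀ i, LocallyOfFiniteType (g i) := fun i => inferInstance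
  have H : ∀ i, ∃ (W' C' : Scheme.{u}) (h : W' ⟶ (I i).subscheme) (j : W' ⟶ C') (ρ : C' ⟶ X),
      Surjective h ∧ IsOpenImmersion j ∧ QuasiCompact j ∧ Dense (Set.range j) ∧
        Pi1.IsNormalScheme C' ∧ IsFinite ρ ∧ j ≫ ρ = h ≫ g i ≫ f :=
    fun i => exists_normal_cover hX (g i ≫ f)
  choose W' C' h j ρ hh hj hqc hd hn hρ hfac using H
  obtain ⟨n, ⟨e⟩⟩ := Finite.exists_equiv_fin J
  refine ⟨n, fun a => W' (e.symm a), fun a => C' (e.symm a), fun a => h _ ≫ g _, fun a => j _, fun a => ρ _,
    fun z => ?_, fun a => ⟨hj _, hqc _, hd _, hn _, hρ _, (hfac _).trans (Category.assoc _ _ _).symm⟩⟩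
  have hz : z ∈ ⋃ x ∈ s, ((exists_isAffineOpen_mem_and_subset (U := (⊤ : Z.Opens)) (x := x) trivial).choose : Set Z) :=
    hcov ▸ Set.mem_univ z
  simp only [Set.mem_iUnion] at hz
  obtain ⟨x, hx, hzx⟩ := hz
  let z₀ : (A ⟨x, hx⟩).toScheme := ⟨z, hzx⟩
  let i : J := ⟨⟨x, hx⟩, ⟨irreducibleComponent z₀, irreducibleComponent_mem_irreducibleComponents z₀⟩⟩
  obtain ⟨w, hw⟩ : z₀ ∈ Set.range (I i).subschemeι := by
    rw [Scheme.IdealSheafData.range_subschemeι, Scheme.IdealSheafData.coe_support_vanishingIdeal]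
    exact mem_irreducibleComponent
  obtain ⟨w', hw'⟩ := (hh i).1 w
  have key : (h i ≫ g i) w' = z := by
    show (h i ≫ (I i).subschemeι ≫ (A i.1).ι) w' = z
    rw [Scheme.Hom.comp_apply, Scheme.Hom.comp_apply, hw', hw]
    rfl
  refine ⟨e i, ?_⟩
  show z ∈ Set.range (h (e.symm (e i)) ≫ g (e.symm (e i)))
  rw [e.symm_apply_apply]
  exact ⟨w', key⟩

end Groth.Agent.PushQF9
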