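import Groth.Prelude.Def_PBC
import Groth.Prelude.Def_EtCore
import Groth.Agent.Lib.PushQF9.Cover
import Groth.Agent.Lib.Constr24.Presentation
import Groth.Agent.Lib.Constr24.PushFinite
import Groth.Agent.Lib.EtStalk.Agree
import Groth.Agent.S0140
import Groth.Agent.S0143
import Groth.Agent.S3104

/-!
# Direct images of constructible sheaves along quasi-finite morphisms
-/

set_option autoImplicit false

universe u

open CategoryTheory CategoryTheory.Limits AlgebraicGeometry Opposite
open Groth.Agent.EtStalk Groth.Agent.Constr24 Groth.Agent.LocConst24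

namespace Groth.Agent.PushQF9

/-- The constant sheaf embeds in the product of its direct images from a jointly surjective family. -/
theorem mono_lift_units {Z : Scheme.{u}} (F : EtCoh.Ab Z) {n : ℕ} (W : Fin n → Scheme.{u})
    (h : ∀ i, W i ⟶ Z) (hc : ∀ z : Z, ∃ i, z ∈ Set.range (h i)) :
    Mono (biproduct.lift fun i => (EtCoh.pullPushAdj (h i)).unit.app F) := by
  rw [mono_iff_app_injective]
  rintro ⟨U⟩ s t he
  refine eq_of_agree F fun x => ?_
  obtain ⟨i, w, hw⟩ := hc (U.hom x)
  have hi : ((EtCoh.pullPushAdj (h i)).unit.app F).hom.app (op U) s =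
      ((EtCoh.pullPushAdj (h i)).unit.app F).hom.app (op U) t := by
    have hfac := biproduct.lift_π (fun i => (EtCoh.pullPushAdj (h i)).unit.app F) i
    have h1 := fun r => ConcreteCategory.congr_hom (congrArg (fun φ => φ.hom.app (op U)) hfac) r
    exact (h1 s).symm.trans ((congrArg
      ((biproduct.π (fun i => (EtCoh.push (h i)).obj ((EtCoh.pull (h i)).obj F)) i).hom.app (op U)) he).trans (h1 t))
  obtain ⟨z, hz, -⟩ := Scheme.Pullback.exists_preimage_pullback (f := U.hom) (g := h i) x w hw.symm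
  have hagree : z ∈ agree ((EtCoh.pull (h i)).obj F) (((EtCoh.pullPushAdj (h i)).unit.app F).hom.app (op U) s)
      (((EtCoh.pullPushAdj (h i)).unit.app F).hom.app (op U) t) := by
    rw [hi]; exact agree_self _ _ _
  have h2 := (mem_agree_unit (h i) F s t z).1 hagree
  exact hz ▸ h2

theorem isConstructible_push_const {X Z : Scheme.{u}} [IsNoetherian X]
    (hX : ∀ U : X.Opens, IsAffineOpen U → CAlg.IsUniversallyJapanese Γ(X, U))
    (f : Z ⟶ X) [LocallyQuasiFinite f] [LocallyOfFiniteType f] [QuasiCompact f]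
    (M : Type) [AddCommGroup M] [Finite M] :
    EtPBC.IsConstructible ((EtCoh.push f).obj (EtCoh.const Z M)) := by
  obtain ⟨n, W, C, h, j, ρ, hc, H⟩ := exists_normal_covers hX f
  let F := EtCoh.const Z M
  haveI := mono_lift_units F W h hc
  let m := biproduct.lift fun i => (EtCoh.pullPushAdj (h i)).unit.app F
  haveI : (EtCoh.push f).IsRightAdjoint := (EtCoh.pullPushAdj f).isRightAdjoint
  haveI : Mono ((EtCoh.push f).map m) := inferInstance
  let G : Fin n → EtCoh.Ab Z := fun i => (EtCoh.push (h i)).obj ((EtCoh.pull (h i)).obj F)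
  haveI : Mono ((EtCoh.push f).map m ≫ ((EtCoh.push f).mapBiproduct G).hom) := mono_comp _ _
  refine Groth.Agent.Constr24.isConstructible_sub
    ((EtCoh.push f).map m ≫ ((EtCoh.push f).mapBiproduct G).hom)
    (isConstructible_biproduct _ fun i => ?_)
  obtain ⟨hj, hqc, hd, hn, hρ, hfac⟩ := H i
  haveI := hj; haveI := hqc; haveI := hρ
  haveI : IsNoetherian (C i) := Groth.Agent.LocImm12.isNoetherian_of_finiteType (ρ i)
  haveI : IsLocallyNoetherian X := inferInstance
  haveI : LocallyOfFinitePresentation (ρ i) := inferInstance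
  haveI := Groth.Agent.S3104.result (C i) (W i) hn (j i) hd M
  let e : (EtCoh.push f).obj (G i) ≅ (EtCoh.push (ρ i)).obj (EtCoh.const (C i) M) :=
    (EtCoh.push f).mapIso ((EtCoh.push (h i)).mapIso
      (EtCore.pullConst (h i) M ≪≫ (EtCore.pullConst (j i) M).symm)) ≪≫
    (EtCoh.pushComp f (h i)).app _ ≪≫ eqToIso (by simp only [hfac]) ≪≫
    ((EtCoh.pushComp (ρ i) (j i)).app _).symm ≪≫
    (EtCoh.push (ρ i)).mapIso (asIso ((EtCoh.pullPushAdj (j i)).unit.app (EtCoh.const (C i) M))).symm
  exact Groth.Agent.ExtShriek24.isConstructible_iso' e.symm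
    (Groth.Agent.Constr24.isConstructible_push_finite (ρ i) (isConstructible_of_flc (flc_const _ M)))

theorem isConstructible_push {X Y : Scheme.{u}} [IsNoetherian X]
    (hX : ∀ U : X.Opens, IsAffineOpen U → CAlg.IsUniversallyJapanese Γ(X, U))
    (q : Y ⟶ X) [LocallyQuasiFinite q] [LocallyOfFiniteType q] [QuasiCompact q]
    (F : EtCoh.Ab Y) (hF : EtPBC.IsConstructible F) :
    EtPBC.IsConstructible ((EtCoh.push q).obj F) := by
  haveI : IsNoetherian Y := Groth.Agent.LocImm12.isNoetherian_of_finiteType q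
  obtain ⟨n, Z, g, hg, M, hM, hMf, hι⟩ := Groth.Agent.S0143.result Y F hF
  haveI := hg; haveI := hMf
  obtain ⟨ι, hmono⟩ := @hι fun i => EtCoh.bcCont (g i)
  haveI := hmono
  haveI : (EtCoh.push q).IsRightAdjoint := (EtCoh.pullPushAdj q).isRightAdjoint
  haveI : Mono ((EtCoh.push q).map ι) := inferInstance
  let G : Fin n → EtCoh.Ab Y := fun i => (EtCoh.push (g i)).obj (EtCoh.const (Z i) (M i))
  haveI : Mono ((EtCoh.push q).map ι ≫ ((EtCoh.push q).mapBiproduct G).hom) := mono_comp _ _
  refine Groth.Agent.Constr24.isConstructible_sub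
    ((EtCoh.push q).map ι ≫ ((EtCoh.push q).mapBiproduct G).hom) (isConstructible_biproduct _ fun i => ?_)
  exact Groth.Agent.ExtShriek24.isConstructible_iso' ((EtCoh.pushComp q (g i)).app _).symm
    (isConstructible_push_const hX (g i ≫ q) (M i))

end Groth.Agent.PushQF9
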